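import Mathlib
import Cfsg.Prelude.Def_Transfer

/-!
# Elementary abelian subgroups of largest order

Key fact: an element of order dividing `p` centralizing a largest elementary abelian
`p`-subgroup lies in it.
-/

set_option autoImplicit false

namespace Cfsg.Agent.Lib.Basic.MaxEA

open Subgroup

variable {P : Type*} [Group P]

/-- Adjoining a commuting element of exponent `p` to an elementary abelian subgroup gives an
elementary abelian subgroup. -/
theorem isElementaryAbelian_adjoin {p : ℕ} {A : Subgroup P} (hA : Cfsg.IsElementaryAbelian p A)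
    {x : P} (hx : x ^ p = 1) (hc : x ∈ centralizer (A : Set P)) :
    Cfsg.IsElementaryAbelian p (closure ((A : Set P) ∪ {x})) := by
  have hcomm : ∀ a ∈ ((A : Set P) ∪ {x}), ∀ b ∈ ((A : Set P) ∪ {x}), a * b = b * a := by
    obtain ⟨h1, -⟩ := hA
    rintro a (ha | rfl) b (hb | rfl)
    · have := mul_comm' (⟨a, ha⟩ : A) ⟨b, hb⟩
      simpa using congrArg Subtype.val this
    · exact (mem_centralizer_iff.mp hc a ha)
    · exact (mem_centralizer_iff.mp hc b hb).symm
    · rfl
  have hle : closure ((A : Set P) ∪ {x}) ≤ centralizer (closure ((A : Set P) ∪ {x}) : Set P) := by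
    rw [centralizer_closure]
    rw [closure_le]
    intro a ha
    rw [SetLike.mem_coe, mem_centralizer_iff]
    intro b hb
    exact hcomm b hb a ha
  have hAB := le_centralizer_iff_isMulCommutative.mp hle
  refine ⟨hAB, fun y hy => ?_⟩
  induction hy using closure_induction with
  | mem y hy =>
    rcases hy with hy | rfl
    · exact hA.2 y hy
    · exact hx
  | one => simp
  | mul y z hyc hzc hy hz =>
    have : Commute y z := by
      have := mul_comm' (⟨y, hyc⟩ : closure ((A : Set P) ∪ {x})) ⟨z, hzc⟩
      exact congrArg Subtype.val this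
    rw [this.mul_pow, hy, hz, one_mul]
  | inv y _ hy => rw [inv_pow, hy, inv_one]

/-- An element with `x ^ p = 1` centralizing a largest elementary abelian subgroup lies in it. -/
theorem mem_of_mem_maxEA [Finite P] {p : ℕ} {A : Subgroup P}
    (hA : A ∈ Cfsg.maxElementaryAbelianSubgroups p P)
    {x : P} (hx : x ^ p = 1) (hc : x ∈ centralizer (A : Set P)) : x ∈ A := by
  have hB := isElementaryAbelian_adjoin hA.1 hx hc
  have hle : A ≤ closure ((A : Set P) ∪ {x}) := by
    intro a ha
    exact subset_closure (Or.inl ha)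
  have heq := Subgroup.eq_of_le_of_card_ge hle (hA.2 _ hB)
  rw [heq]
  exact subset_closure (Or.inr rfl)

/-- Largest elementary abelian subgroups exist in a finite group. -/
theorem exists_mem_maxEA [Finite P] (p : ℕ) : ∃ A : Subgroup P, A ∈ Cfsg.maxElementaryAbelianSubgroups p P := by
  have hbot : Cfsg.IsElementaryAbelian p (⊥ : Subgroup P) := by
    refine ⟨⟨⟨fun a b => ?_⟩⟩, fun a ha => ?_⟩
    · exact Subsingleton.elim _ _
    · rw [mem_bot] at ha; simp [ha]
  haveI : Nonempty {A : Subgroup P // Cfsg.IsElementaryAbelian p A} := ⟨⟨⊥, hbot⟩⟩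
  obtain ⟨⟨A, hA⟩, hmax⟩ := Finite.exists_max
    (fun A : {A : Subgroup P // Cfsg.IsElementaryAbelian p A} => Nat.card A.1)
  exact ⟨A, hA, fun B hB => hmax ⟨B, hB⟩⟩

/-- Each largest elementary abelian subgroup lies in the Thompson subgroup. -/
theorem le_thompsonSubgroup {p : ℕ} {A : Subgroup P}
    (hA : A ∈ Cfsg.maxElementaryAbelianSubgroups p P) : A ≤ Cfsg.thompsonSubgroup p P :=
  le_sSup hA

end Cfsg.Agent.Lib.Basic.MaxEA
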