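import Mathlib
import Cfsg.Prelude.Def_SporCoxeter

set_option autoImplicit false

namespace Cfsg.Agent.Lib.Basic.CoxAbel

open Cfsg.Spor

variable {G : Type*} [Group G]

/-- Two involutions with `(xy)^3 = 1` are equal modulo the commutator subgroup. -/
theorem mk_eq_of_braid {x y : G} (hx : x * x = 1) (hy : y * y = 1) (hxy : (x * y) ^ 3 = 1) :
    (QuotientGroup.mk x : G ⧸ commutator G) = QuotientGroup.mk y := by
  have h : (Abelianization.of x) = (Abelianization.of y) := by
    set X := Abelianization.of x with hX
    set Y := Abelianization.of y with hY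
    have hXX : X * X = 1 := by rw [hX, ← map_mul, hx, map_one]
    have hYY : Y * Y = 1 := by rw [hY, ← map_mul, hy, map_one]
    have hXY : (X * Y) ^ 3 = 1 := by rw [hX, hY, ← map_mul, ← map_pow, hxy, map_one]
    have h3 : X * Y = 1 := by
      have : (X * Y) ^ 3 = (X * X) * (Y * Y) * (X * Y) := by
        rw [pow_succ, pow_two]
        exact mul_mul_mul_comm X Y X Y ▸ rfl
      rw [this, hXX, hYY, one_mul, one_mul] at hXY
      exact hXY
    calc X = X * (Y * Y) := by rw [hYY, mul_one]
      _ = (X * Y) * Y := by rw [mul_assoc]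
      _ = Y := by rw [h3, one_mul]
  exact h

/-- If `G` is generated by elements all congruent mod `[G,G]` to an involution `d`, and some
hom to `ℤ/2` does not kill `d`, then `[G,G]` has index `2`. -/
theorem index_commutator_eq_two {S : Set G} (hS : Subgroup.closure S = ⊤) (d : G) (hdd : d * d = 1)
    (hab : ∀ s ∈ S, (QuotientGroup.mk s : G ⧸ commutator G) = QuotientGroup.mk d)
    (φ : G →* Multiplicative (ZMod 2)) (hφ : φ d ≠ 1) : (commutator G).index = 2 := by
  have hmain : ∀ g : G, (QuotientGroup.mk g : G ⧸ commutator G) = 1 ∨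
      (QuotientGroup.mk g : G ⧸ commutator G) = QuotientGroup.mk d := by
    intro g
    have hg : g ∈ Subgroup.closure S := by rw [hS]; trivial
    have hdinv : (QuotientGroup.mk d : G ⧸ commutator G) * QuotientGroup.mk d = 1 := by
      rw [← QuotientGroup.mk_mul, hdd]; rfl
    induction hg using Subgroup.closure_induction with
    | mem x hx => exact Or.inr (hab x hx)
    | one => exact Or.inl rfl
    | mul x y _ _ ihx ihy =>
      rw [QuotientGroup.mk_mul]
      rcases ihx with hx | hx <;> rcases ihy with hy | hy <;> rw [hx, hy]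
      · left; simp
      · right; simp
      · right; simp
      · left; exact hdinv
    | inv x _ ihx =>
      rw [QuotientGroup.mk_inv]
      rcases ihx with hx | hx <;> rw [hx]
      · left; simp
      · right
        exact inv_eq_of_mul_eq_one_left hdinv
  have hcomm : commutator G ≤ φ.ker := by
    rw [commutator_def, Subgroup.commutator_le]
    intro a _ b _
    rw [MonoidHom.mem_ker, map_commutatorElement]
    rw [commutatorElement_eq_one_iff_mul_comm]
    exact mul_comm _ _
  have hdne : (QuotientGroup.mk d : G ⧸ commutator G) ≠ 1 := by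
    intro h
    rw [QuotientGroup.eq_one_iff] at h
    exact hφ (hcomm h)
  rw [Subgroup.index_eq_card]
  rw [Nat.card_eq_two_iff' (1 : G ⧸ commutator G)]
  refine ⟨QuotientGroup.mk d, hdne, ?_⟩
  intro y hy
  obtain ⟨g, rfl⟩ := QuotientGroup.mk_surjective y
  rcases hmain g with h | h
  · exact absurd h hy
  · exact h

/-- The constant map to the nontrivial element of `ℤ/2`. -/
def signGen (α : Type*) : α → Multiplicative (ZMod 2) := fun _ => Multiplicative.ofAdd 1

theorem lift_signGen_cox {α : Type*} [DecidableEq α] (edges : List (α × ℕ × α)) :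
    ∀ r ∈ coxRelators edges, FreeGroup.lift (signGen α) r = 1 := by
  rintro r ⟨x, -, y, -, rfl⟩
  rw [map_pow, map_mul, FreeGroup.lift_apply_of, FreeGroup.lift_apply_of]
  have : signGen α x * signGen α y = 1 := by
    show Multiplicative.ofAdd (1 : ZMod 2) * Multiplicative.ofAdd (1 : ZMod 2) = 1
    decide
  rw [this, one_pow]

end Cfsg.Agent.Lib.Basic.CoxAbel
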