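import Mathlib

/-!
# Maximal centralizers

Tools for groups in which centralizers of (many) elements are maximal subgroups:
an abelian Sylow subgroup that is maximal forces solvability, and a counting lemma for
elements conjugate into a set of elements centralized by a subgroup.
-/

set_option autoImplicit false

namespace Cfsg.Agent.Lib.Basic.MaxCentralizer

open scoped Pointwise

variable {G : Type*} [Group G]

/-- A normal coatom with solvable quotient: `G ⧸ M` is cyclic. -/
theorem quot_comm_of_coatom (K : Subgroup G) [K.Normal] (hK : IsCoatom K) :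
    ∀ a b : G ⧸ K, a * b = b * a := by
  intro a b
  by_cases ha : a = 1
  · simp [ha]
  obtain ⟨a', rfl⟩ := QuotientGroup.mk_surjective a
  obtain ⟨b', rfl⟩ := QuotientGroup.mk_surjective b
  have hlt : K < (Subgroup.zpowers (a' : G ⧸ K)).comap (QuotientGroup.mk' K) := by
    refine lt_of_le_of_ne ?_ ?_
    · intro k hk
      have : ((k : G) : G ⧸ K) = 1 := (QuotientGroup.eq_one_iff k).2 hk
      simp [this]
    · intro h
      apply ha
      have : a' ∈ (Subgroup.zpowers (a' : G ⧸ K)).comap (QuotientGroup.mk' K) :=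
        Subgroup.mem_zpowers _
      rw [← h] at this
      exact (QuotientGroup.eq_one_iff a').2 this
  have htop := hK.2 _ hlt
  have hb : b' ∈ (Subgroup.zpowers (a' : G ⧸ K)).comap (QuotientGroup.mk' K) := by
    rw [htop]; trivial
  obtain ⟨k, hk⟩ := hb
  simp only [QuotientGroup.mk'_apply] at hk
  rw [← hk]
  exact ((Commute.refl _).zpow_left k).symm.eq

/-- A normal solvable coatom makes the group solvable. -/
theorem isSolvable_of_normal_coatom (K : Subgroup G) [K.Normal] (hK : IsCoatom K)
    [Group.IsSolvable K] : Group.IsSolvable G := by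
  haveI : Group.IsSolvable (G ⧸ K) := Group.isSolvable_of_comm (quot_comm_of_coatom K hK)
  exact Group.isSolvable_of_ker_le_range K.subtype (QuotientGroup.mk' K) (by simp)

/-- An abelian maximal subgroup which is a Sylow subgroup forces solvability. -/
theorem isSolvable_of_abelian_sylow_coatom [Finite G] {p : ℕ} [hp : Fact p.Prime] (S : Sylow p G)
    (hab : ∀ a ∈ (S : Subgroup G), ∀ b ∈ (S : Subgroup G), a * b = b * a)
    (hc : IsCoatom (S : Subgroup G)) : Group.IsSolvable G := by
  classical
  have hScomm : ∀ a b : (S : Subgroup G), a * b = b * a := fun a b =>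
    Subtype.ext (hab a a.2 b b.2)
  haveI hSsol : Group.IsSolvable (S : Subgroup G) := Group.isSolvable_of_comm hScomm
  by_cases hn : (S : Subgroup G).Normal
  · exact isSolvable_of_normal_coatom (S : Subgroup G) hc
  have hnorm : Subgroup.normalizer ((S : Subgroup G) : Set G) = (S : Subgroup G) := by
    by_contra hne
    have hlt : (S : Subgroup G) < Subgroup.normalizer ((S : Subgroup G) : Set G) :=
      lt_of_le_of_ne Subgroup.le_normalizer (Ne.symm hne)
    exact hn (Subgroup.normalizer_eq_top_iff.1 (hc.2 _ hlt))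
  have hP : Subgroup.normalizer ((S : Subgroup G) : Set G) ≤
      Subgroup.centralizer ((S : Subgroup G) : Set G) := by
    rw [hnorm]
    intro a ha
    rw [Subgroup.mem_centralizer_iff]
    intro b hb
    exact hab b hb a ha
  let K : Subgroup G := (MonoidHom.transferSylow S hP).ker
  have hcomp : Subgroup.IsComplement' K (S : Subgroup G) :=
    MonoidHom.ker_transferSylow_isComplement' S hP
  have hnp : ¬ p ∣ Nat.card K := MonoidHom.not_dvd_card_ker_transferSylow S hP
  haveI hKn : K.Normal := MonoidHom.normal_ker _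
  have hcard : Nat.card K * Nat.card (S : Subgroup G) = Nat.card G := hcomp.card_mul_card
  -- `K` is nontrivial, since `S` is a proper subgroup
  have hKne : Nat.card K ≠ 1 := by
    intro h1
    have : Nat.card (S : Subgroup G) = Nat.card G := by rw [← hcard, h1, one_mul]
    exact hc.1 (Subgroup.card_eq_iff_eq_top _ |>.1 this)
  obtain ⟨r, hr, hrK⟩ := Nat.exists_prime_and_dvd hKne
  haveI hrf : Fact r.Prime := ⟨hr⟩
  have hrp : r ≠ p := fun h => hnp (h ▸ hrK)
  -- an `S`-invariant Sylow `r`-subgroup of `K`
  let R0 : Sylow r K := Classical.arbitrary _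
  let R1 : Subgroup G := (R0 : Subgroup K).map K.subtype
  have hfrat : Subgroup.normalizer (R1 : Set G) ⊔ K = ⊤ := Sylow.normalizer_sup_eq_top R0
  have hR1card : Nat.card R1 = Nat.card (R0 : Subgroup K) :=
    Nat.card_congr (Subgroup.equivMapOfInjective _ _ K.subtype_injective).symm.toEquiv
  have hR1P : IsPGroup r R1 := R0.isPGroup'.map K.subtype
  have hR1ne : R1 ≠ ⊥ := by
    intro h0
    have h1 : Nat.card (R0 : Subgroup K) = 1 := by
      rw [← hR1card, h0]; simp
    have hdvd : r ∣ Nat.card (R0 : Subgroup K) :=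
      by simpa using R0.pow_dvd_card_of_pow_dvd_card (n := 1) (by simpa using hrK)
    rw [h1] at hdvd
    exact hr.one_lt.ne' (Nat.dvd_one.1 hdvd)
  -- index of the normalizer is prime to `p`
  set M : Subgroup G := Subgroup.normalizer (R1 : Set G) with hM
  have hidx : ¬ p ∣ M.index := by
    intro hd
    apply hnp
    have h1 : K.index = K.relIndex M := by
      have := Subgroup.relIndex_sup_right M K
      rw [hfrat, Subgroup.relIndex_top_right] at this
      exact this
    have h2 : K.relIndex M * Nat.card (M ⊓ K : Subgroup G) = Nat.card M := by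
      have h3 := Subgroup.relIndex_mul_relIndex (⊥ : Subgroup G) (K ⊓ M) M bot_le inf_le_right
      rw [Subgroup.relIndex_bot_left, Subgroup.relIndex_bot_left, Subgroup.inf_relIndex_right,
        inf_comm, mul_comm] at h3
      exact h3
    have h4 : K.index * Nat.card K = Nat.card G := Subgroup.index_mul_card K
    have h5 : M.index * Nat.card M = Nat.card G := Subgroup.index_mul_card M
    have h6 : Nat.card K = M.index * Nat.card (M ⊓ K : Subgroup G) := by
      have hpos : 0 < K.index := Nat.pos_of_ne_zero Subgroup.FiniteIndex.index_ne_zero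
      apply Nat.eq_of_mul_eq_mul_left hpos
      rw [h4, ← h5, ← h2, ← h1]
      ring
    rw [h6]
    exact hd.mul_right _
  -- a fixed point of `S` on the cosets of the normalizer
  have hqne : ¬ p ∣ Nat.card (G ⧸ M) := by
    rwa [← Subgroup.index_eq_card]
  obtain ⟨q, hq⟩ := IsPGroup.nonempty_fixed_point_of_prime_not_dvd_card S.isPGroup' (α := G ⧸ M) hqne
  obtain ⟨g, rfl⟩ := QuotientGroup.mk_surjective q
  let R2 : Subgroup G := R1.map (MulAut.conj g).toMonoidHom
  have hR2mem : ∀ y, y ∈ R2 ↔ g⁻¹ * y * g ∈ R1 := by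
    intro y
    constructor
    · rintro ⟨y', hy', rfl⟩
      simpa [MulAut.conj_apply, mul_assoc] using hy'
    · intro hy
      refine ⟨_, hy, ?_⟩
      simp [MulAut.conj_apply, mul_assoc]
  have hR2card : Nat.card R2 = Nat.card R1 :=
    Nat.card_congr (Subgroup.equivMapOfInjective _ _ (MulAut.conj g).injective).symm.toEquiv
  have hR2P : IsPGroup r R2 := hR1P.map _
  have hR2ne : R2 ≠ ⊥ := by
    intro h0
    apply hR1ne
    have : Nat.card R1 = 1 := by rw [← hR2card, h0]; simp
    exact Subgroup.eq_bot_of_card_eq _ this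
  have hSnorm : (S : Subgroup G) ≤ Subgroup.normalizer (R2 : Set G) := by
    intro s hs
    have hfix := hq ⟨s, hs⟩
    have hmem : g⁻¹ * (s * g) ∈ M := by
      have h7 : ((s * g : G) : G ⧸ M) = (g : G ⧸ M) := hfix
      have h8 := QuotientGroup.eq.1 h7
      have h9 : (s * g)⁻¹ * g ∈ M := h8
      have h10 := M.inv_mem h9
      simpa using h10
    have hmem' := Subgroup.mem_normalizer_iff.1 hmem
    rw [Subgroup.mem_normalizer_iff]
    intro y
    rw [hR2mem, hR2mem]
    have := hmem' (g⁻¹ * y * g)
    rw [this]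
    have he : g⁻¹ * (s * g) * (g⁻¹ * y * g) * (g⁻¹ * (s * g))⁻¹ = g⁻¹ * (s * y * s⁻¹) * g := by
      group
    rw [he]
  -- `S` together with `R2` generates `G`, and `R2` is normal
  have hnotle : ¬ R2 ≤ (S : Subgroup G) := by
    intro hle
    apply hR2ne
    rw [eq_bot_iff]
    intro y hy
    have h1 := hR2P.to_le (le_refl _) ⟨y, hy⟩
    obtain ⟨a, ha⟩ := hR2P ⟨y, hy⟩
    obtain ⟨b, hb⟩ := S.isPGroup' ⟨y, hle hy⟩
    have ha' : y ^ r ^ a = 1 := by simpa [Subtype.ext_iff] using ha
    have hb' : y ^ p ^ b = 1 := by simpa [Subtype.ext_iff] using hb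
    have hcop : Nat.Coprime (r ^ a) (p ^ b) :=
      Nat.Coprime.pow _ _ ((Nat.coprime_primes hr hp.out).2 hrp)
    have h1' := orderOf_dvd_of_pow_eq_one ha'
    have h2' := orderOf_dvd_of_pow_eq_one hb'
    have h3 : orderOf y = 1 := Nat.eq_one_of_dvd_coprimes hcop h1' h2'
    simpa using orderOf_eq_one_iff.1 h3
  have hsup : (S : Subgroup G) ⊔ R2 = ⊤ := by
    apply hc.2
    exact lt_of_le_of_ne le_sup_left (fun he => hnotle (he ▸ le_sup_right))
  haveI hR2n : R2.Normal := by
    apply Subgroup.normalizer_eq_top_iff.1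
    rw [eq_top_iff, ← hsup]
    exact sup_le hSnorm Subgroup.le_normalizer
  haveI hR2nil : Group.IsNilpotent R2 := hR2P.isNilpotent
  haveI hR2sol : Group.IsSolvable R2 := inferInstance
  haveI : Group.IsSolvable (G ⧸ R2) := by
    have hsurj : Function.Surjective ((QuotientGroup.mk' R2).comp (S : Subgroup G).subtype) := by
      intro q'
      obtain ⟨y, rfl⟩ := QuotientGroup.mk_surjective q'
      have hy : y ∈ (S : Subgroup G) ⊔ R2 := by rw [hsup]; trivial
      have hy' : y ∈ ((S : Subgroup G) : Set G) * (R2 : Set G) := by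
        rw [← Subgroup.mul_normal]; exact hy
      obtain ⟨a, ha, b, hb, rfl⟩ := Set.mem_mul.1 hy'
      refine ⟨⟨a, ha⟩, ?_⟩
      simp only [MonoidHom.coe_comp, Function.comp_apply, Subgroup.subtype_apply,
        QuotientGroup.mk'_apply]
      rw [QuotientGroup.eq]
      simpa using hb
    exact Group.isSolvable_of_surjective hsurj
  exact Group.isSolvable_of_ker_le_range R2.subtype (QuotientGroup.mk' R2) (by simp)

/-- Counting elements conjugate into a set of elements centralized by `S`. -/
theorem card_le_index_mul_card [Fintype G] [DecidableEq G] {S : Subgroup G} (X B : Finset G)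
    (hX : ∀ x ∈ X, ∃ g : G, ∃ z ∈ B, x = g * z * g⁻¹)
    (hB : ∀ z ∈ B, ∀ t ∈ S, t * z = z * t) : X.card ≤ S.index * B.card := by
  classical
  haveI : Fintype (G ⧸ S) := Fintype.ofFinite _
  let f : (G ⧸ S) × G → G := fun a => a.1.out * a.2 * a.1.out⁻¹
  have hsub : X ⊆ ((Finset.univ ×ˢ B).image f) := by
    intro x hx
    obtain ⟨g, z, hz, rfl⟩ := hX x hx
    rw [Finset.mem_image]
    refine ⟨((g : G ⧸ S), z), by simp [hz], ?_⟩
    have h1 : (((g : G ⧸ S).out : G) : G ⧸ S) = (g : G ⧸ S) := QuotientGroup.out_eq' _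
    have h2 : g⁻¹ * (g : G ⧸ S).out ∈ S := by
      have := QuotientGroup.eq.1 h1.symm
      exact this
    obtain ⟨u, hu⟩ : ∃ u, (g : G ⧸ S).out = g * u := ⟨g⁻¹ * (g : G ⧸ S).out, by group⟩
    have hu' : u ∈ S := by
      rw [hu] at h2
      simpa using h2
    simp only [f]
    rw [hu]
    have h3 := hB z hz u hu'
    calc g * u * z * (g * u)⁻¹ = g * (u * z) * u⁻¹ * g⁻¹ := by group
      _ = g * (z * u) * u⁻¹ * g⁻¹ := by rw [h3]
      _ = g * z * g⁻¹ := by group
  calc X.card ≤ ((Finset.univ ×ˢ B).image f).card := Finset.card_le_card hsub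
    _ ≤ (Finset.univ ×ˢ B).card := Finset.card_image_le
    _ = S.index * B.card := by
        rw [Finset.card_product, Finset.card_univ, Subgroup.index_eq_card,
          Nat.card_eq_fintype_card]

end Cfsg.Agent.Lib.Basic.MaxCentralizer
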