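import Mathlib
import Cfsg.Agent.Lib.Char.Burnside2

/-!
Tools for eliminating the orders of small simple groups: solvable simple groups have prime order,
Burnside's `p^a q^b`, Sylow counting with the transfer.
-/

set_option autoImplicit false

namespace Cfsg.Agent.Lib.Basic.SmallSimple

universe u

variable {G : Type u} [Group G] [Finite G] [IsSimpleGroup G]

/-- A finite solvable simple group has prime order. -/
theorem prime_card_of_isSolvable [Group.IsSolvable G] : (Nat.card G).Prime := by
  have hc : ∀ a b : G, a * b = b * a := IsSimpleGroup.comm_iff_isSolvable.mpr inferInstance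
  haveI : IsMulCommutative G := ⟨⟨hc⟩⟩
  exact Group.is_simple_iff_prime_card.mp inferInstance

/-- A finite simple group of order `p ^ a * q ^ b` has prime order (Burnside). -/
theorem prime_card_of_card_eq {p q : ℕ} (hp : p.Prime) (hq : q.Prime) (a b : ℕ)
    (h : Nat.card G = p ^ a * q ^ b) : (Nat.card G).Prime := by
  haveI : Group.IsSolvable G :=
    Cfsg.Agent.Lib.Char.Burnside2.isSolvable_of_card_eq hp hq _ G a b rfl h
  exact prime_card_of_isSolvable

omit [IsSimpleGroup G] in
/-- If the order of the normalizer is coprime to the order of the automorphism group, then the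
normalizer is the centralizer. -/
theorem normalizer_le_centralizer_of_coprime (P : Subgroup G)
    (hcop : Nat.Coprime (Nat.card (Subgroup.normalizer (P : Set G))) (Nat.card (MulAut P))) :
    Subgroup.normalizer (P : Set G) ≤ Subgroup.centralizer (P : Set G) := by
  have key := Subgroup.card_dvd_of_injective _ (QuotientGroup.kerLift_injective P.normalizerMonoidHom)
  rw [Subgroup.normalizerMonoidHom_ker, ← Subgroup.index, ← Subgroup.relIndex] at key
  refine Subgroup.relIndex_eq_one.mp (Nat.eq_one_of_dvd_coprimes hcop ?_ key)
  exact Subgroup.relIndex_dvd_card _ _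

/-- A Burnside normal complement in a simple group forces `|G| = |P|`. -/
theorem card_eq_of_le_centralizer {p : ℕ} [Fact p.Prime] (hp : p ∣ Nat.card G) (P : Sylow p G)
    (hle : Subgroup.normalizer (P : Set G) ≤ Subgroup.centralizer (P : Set G)) :
    Nat.card G = Nat.card (P : Subgroup G) := by
  have hc := MonoidHom.ker_transferSylow_isComplement' P hle
  have hcm := hc.card_mul_card
  haveI hnormal : (MonoidHom.transferSylow P hle).ker.Normal := inferInstance
  rcases hnormal.eq_bot_or_eq_top with h | h
  · rw [h, Subgroup.card_bot, one_mul] at hcm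
    exact hcm.symm
  · exfalso
    rw [h, Subgroup.card_top] at hcm
    have hpos : 0 < Nat.card G := Nat.card_pos
    have h1 : Nat.card (P : Subgroup G) = 1 := by
      apply Nat.eq_of_mul_eq_mul_left hpos
      rw [hcm, mul_one]
    have h2 : (P : Subgroup G) = ⊥ := Subgroup.card_eq_one.mp h1
    have h3 := P.not_dvd_index
    rw [h2, Subgroup.index_bot] at h3
    exact h3 hp

omit [Finite G] [IsSimpleGroup G] in
theorem card_sylow_eq_of_card_eq [Finite G] {p m : ℕ} (hp : p.Prime) (hN : Nat.card G = p * m)
    (hpm : ¬ p ∣ m) [Fact p.Prime] (P : Sylow p G) : Nat.card (P : Subgroup G) = p := by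
  have hidx := Subgroup.card_mul_index (P : Subgroup G)
  obtain ⟨k, hk⟩ := P.2.exists_card_eq
  have hk0 : k ≠ 0 := by
    rintro rfl
    rw [pow_zero] at hk
    rw [hk, one_mul, hN] at hidx
    exact P.not_dvd_index (hidx ▸ dvd_mul_right p m)
  have hk2 : k < 2 := by
    by_contra h
    push Not at h
    have h1 : p ^ 2 ∣ Nat.card (P : Subgroup G) := hk ▸ pow_dvd_pow p h
    have h2 : p ^ 2 ∣ p * m := by
      rw [← hN]
      exact h1.trans (Subgroup.card_subgroup_dvd_card _)
    rw [pow_two] at h2
    exact hpm (Nat.dvd_of_mul_dvd_mul_left hp.pos h2)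
  have : k = 1 := by omega
  rw [hk, this, pow_one]

/-- No simple group has order `p * m` with `p ∤ m`, `1 < m`, when every possible number `d` of Sylow
`p`-subgroups is `1` or has `|N_G(P)| = (m / d) * p` coprime to `p - 1`. -/
theorem false_of_sylow (p m : ℕ) (hp : p.Prime) (hN : Nat.card G = p * m) (hpm : ¬ p ∣ m)
    (hm : 1 < m)
    (hd : ∀ d ∈ m.divisors, d % p = 1 % p → d = 1 ∨ Nat.Coprime (m / d * p) (p - 1)) : False := by
  haveI : Fact p.Prime := ⟨hp⟩
  obtain ⟨P⟩ : Nonempty (Sylow p G) := inferInstance
  have hidx := Subgroup.card_mul_index (P : Subgroup G)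
  have hcard := card_sylow_eq_of_card_eq hp hN hpm P
  have hpidx : (P : Subgroup G).index = m := by
    rw [hcard, hN] at hidx
    exact Nat.eq_of_mul_eq_mul_left hp.pos hidx
  have h1 : Nat.card (Sylow p G) % p = 1 % p := card_sylow_modEq_one p G
  have h2 : Nat.card (Sylow p G) ∣ m := hpidx ▸ P.card_dvd_index
  have hmem : Nat.card (Sylow p G) ∈ m.divisors :=
    Nat.mem_divisors.mpr ⟨h2, by omega⟩
  have hnidx : (Subgroup.normalizer (P : Set G)).index = Nat.card (Sylow p G) :=
    (Sylow.card_eq_index_normalizer P).symm
  have hmne : m ≠ 1 := by omega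
  have hNle : p < Nat.card G := by
    rw [hN]
    nlinarith [hp.pos]
  rcases hd _ hmem h1 with h3 | h3
  · -- normal Sylow subgroup
    rw [h3, Subgroup.index_eq_one] at hnidx
    haveI hnormal : (P : Subgroup G).Normal := Subgroup.normalizer_eq_top_iff.mp hnidx
    rcases hnormal.eq_bot_or_eq_top with h | h
    · rw [h, Subgroup.card_bot] at hcard
      exact hp.one_lt.ne hcard
    · rw [h, Subgroup.card_top] at hcard
      omega
  · -- the normalizer is the centralizer
    have h4 := Subgroup.card_mul_index (Subgroup.normalizer (P : Set G))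
    rw [hnidx, hN] at h4
    set d := Nat.card (Sylow p G) with hd'
    have hdpos : 0 < d := Nat.pos_of_mem_divisors hmem
    have h5 : Nat.card (Subgroup.normalizer (P : Set G)) = m / d * p := by
      apply Nat.eq_of_mul_eq_mul_right hdpos
      rw [h4]
      calc p * m = (m / d * d) * p := by rw [Nat.div_mul_cancel h2]; ring
        _ = _ := by ring
    have hcyc : IsCyclic (P : Subgroup G) := isCyclic_of_prime_card (p := p) hcard
    have h6 : Nat.card (MulAut (P : Subgroup G)) = p - 1 := by
      rw [IsCyclic.card_mulAut, hcard, Nat.totient_prime hp]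
    have h7 := normalizer_le_centralizer_of_coprime (P : Subgroup G) (by
      show Nat.Coprime (Nat.card (Subgroup.normalizer (P : Set G))) _
      rw [h5, h6]; exact h3)
    have h8 := card_eq_of_le_centralizer (hN ▸ dvd_mul_right p m) P h7
    rw [hcard] at h8
    omega

end Cfsg.Agent.Lib.Basic.SmallSimple
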