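import Mathlib

/-!
# Counting elements in Sylow subgroups of prime order
-/

set_option autoImplicit false

namespace Cfsg.Agent.Lib.Basic.SylowCount

open Subgroup

variable {G : Type*} [Group G] [Finite G]

/-- A Sylow subgroup for a prime dividing the order exactly once has that prime order. -/
theorem card_sylow_eq_prime {s : ℕ} [hs : Fact s.Prime] (h1 : s ∣ Nat.card G) (h2 : ¬ s ^ 2 ∣ Nat.card G)
    (P : Sylow s G) : Nat.card P = s := by
  obtain ⟨k, hk⟩ := IsPGroup.iff_card.mp P.2
  have hd : s ∣ Nat.card P := Sylow.dvd_card_of_dvd_card P h1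
  have hd2 : Nat.card P ∣ Nat.card G := Subgroup.card_subgroup_dvd_card _
  rw [hk] at hd hd2
  have hk0 : k ≠ 0 := by
    rintro rfl
    rw [pow_zero] at hd
    exact hs.out.one_lt.ne' (Nat.dvd_one.mp hd)
  have hk1 : k < 2 := by
    by_contra hge
    exact h2 ((pow_dvd_pow s (not_lt.mp hge)).trans hd2)
  have : k = 1 := by omega
  rw [hk, this, pow_one]

/-- Distinct Sylow subgroups of prime order intersect trivially. -/
theorem inf_eq_bot_of_card {s : ℕ} [hs : Fact s.Prime] (P Q : Sylow s G) (hP : Nat.card P = s)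
    (hQ : Nat.card Q = s) (hne : P ≠ Q) : (P : Subgroup G) ⊓ (Q : Subgroup G) = ⊥ := by
  have h1 : Nat.card ((P : Subgroup G) ⊓ (Q : Subgroup G) : Subgroup G) ∣ Nat.card P :=
    Subgroup.card_dvd_of_le inf_le_left
  rw [hP] at h1
  rcases (Nat.dvd_prime hs.out).mp h1 with h | h
  · exact Subgroup.card_eq_one.mp h
  · exfalso
    apply hne
    have e1 : (P : Subgroup G) ⊓ (Q : Subgroup G) = P :=
      Subgroup.eq_of_le_of_card_ge inf_le_left (by rw [h, hP])
    have e2 : (P : Subgroup G) ⊓ (Q : Subgroup G) = Q :=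
      Subgroup.eq_of_le_of_card_ge inf_le_right (by rw [h, hQ])
    exact Sylow.ext (e1.symm.trans e2)

/-- Every element of order `s` lies in a Sylow `s`-subgroup. -/
theorem exists_sylow_mem {s : ℕ} [hs : Fact s.Prime] {x : G} (hx : orderOf x = s) : ∃ P : Sylow s G, x ∈ P := by
  have hZ : IsPGroup s (zpowers x) := by
    apply IsPGroup.of_card (n := 1)
    rw [Nat.card_zpowers, hx, pow_one]
  obtain ⟨Q, hQ⟩ := hZ.exists_le_sylow
  exact ⟨Q, hQ (mem_zpowers x)⟩

/-- The number of elements of prime order `s` when all Sylow `s`-subgroups have order `s`. -/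
theorem card_orderOf_eq {s : ℕ} [hs : Fact s.Prime] (hcard : ∀ P : Sylow s G, Nat.card P = s) :
    Nat.card {x : G // orderOf x = s} = Nat.card (Sylow s G) * (s - 1) := by
  classical
  have := Fintype.ofFinite G
  have := Fintype.ofFinite (Sylow s G)
  let t : Sylow s G → Finset G := fun P => (Finset.univ.filter (· ∈ (P : Subgroup G))).erase 1
  have hS : (Finset.univ.filter (fun x : G => orderOf x = s)) = Finset.univ.biUnion t := by
    ext x
    simp only [Finset.mem_filter, Finset.mem_univ, true_and, Finset.mem_biUnion, t, Finset.mem_erase]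
    constructor
    · intro hx
      obtain ⟨P, hP⟩ := exists_sylow_mem hx
      refine ⟨P, ?_, hP⟩
      rintro rfl
      rw [orderOf_one] at hx
      exact hs.out.one_lt.ne hx
    · rintro ⟨P, hne, hxP⟩
      have h1 : orderOf x ∣ s := by
        rw [← hcard P]
        have := orderOf_dvd_natCard (⟨x, hxP⟩ : (P : Subgroup G))
        rwa [Subgroup.orderOf_mk] at this
      rcases (Nat.dvd_prime hs.out).mp h1 with h | h
      · exact absurd (orderOf_eq_one_iff.mp h) hne
      · exact h
  have htcard : ∀ P : Sylow s G, (t P).card = s - 1 := by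
    intro P
    rw [Finset.card_erase_of_mem (by simp [Subgroup.one_mem])]
    congr 1
    have := hcard P
    rw [Nat.card_eq_fintype_card, Fintype.card_subtype] at this
    convert this
  have hdisj : ∀ P ∈ (Finset.univ : Finset (Sylow s G)), ∀ Q ∈ (Finset.univ : Finset (Sylow s G)), P ≠ Q →
      Disjoint (t P) (t Q) := by
    intro P _ Q _ hne
    rw [Finset.disjoint_left]
    intro x hxP hxQ
    simp only [t, Finset.mem_erase, Finset.mem_filter, Finset.mem_univ, true_and] at hxP hxQ
    have h1 := inf_eq_bot_of_card P Q (hcard P) (hcard Q) hne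
    have h2 : x ∈ (P : Subgroup G) ⊓ (Q : Subgroup G) := Subgroup.mem_inf.mpr ⟨hxP.2, hxQ.2⟩
    rw [h1, Subgroup.mem_bot] at h2
    exact hxP.1 h2
  rw [Nat.card_eq_fintype_card, Fintype.card_subtype, hS, Finset.card_biUnion hdisj]
  simp only [htcard, Finset.sum_const, Finset.card_univ, smul_eq_mul]
  rw [Nat.card_eq_fintype_card]

end Cfsg.Agent.Lib.Basic.SylowCount
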